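import Groth.Agent.Lib.DetDeg13.Main
import Groth.Agent.Lib.Twist.Gen
import Groth.Agent.Lib.Wedge2.Top
import Mathlib.LinearAlgebra.Matrix.Kronecker
import Mathlib.LinearAlgebra.TensorProduct.Basis

/-!
# The determinant of a tensor product of locally free modules
-/

set_option autoImplicit false
set_option linter.style.haveILetI false
set_option backward.isDefEq.respectTransparency false
set_option backward.isDefEq.respectTransparency.types false
set_option maxHeartbeats 1000000

universe u

open CategoryTheory CategoryTheory.Limits AlgebraicGeometry TopologicalSpace Opposite TensorProduct Kronecker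

noncomputable section

namespace Groth.Agent.DetTensor28

open Groth.Agent.M1 Groth.Agent.P1Split Groth.Agent.DetDeg13
open Groth.Agent.M2 (tsec res)
open Groth.Agent.Amp (Gen gm pw)

variable {X : Scheme.{u}} {m n : ℕ} {E F : X.Modules}

/-- The product family of two families of sections. -/
def prodFam {U : X.Opens} (e : Fin m → Γ(E, U)) (f : Fin n → Γ(F, U)) :
    Fin (m * n) → Γ(CohB1.tensorMod E F, U) :=
  fun a => tsec E F (e (finProdFinEquiv.symm a).1) (f (finProdFinEquiv.symm a).2)

theorem mres_prodFam {U V : X.Opens} (h : V ≤ U) (e : Fin m → Γ(E, U)) (f : Fin n → Γ(F, U)) :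
    (fun a => mres (CohB1.tensorMod E F) h (prodFam e f a)) =
      prodFam (fun i => mres E h (e i)) (fun i => mres F h (f i)) :=
  funext fun _ => M2.res_tsec h _ _

/-- Tensor products of bases are bases. -/
theorem isBas_prodFam {U : X.Opens} {e : Fin m → Γ(E, U)} {f : Fin n → Γ(F, U)} (he : IsBas E U e)
    (hf : IsBas F U f) : IsBas (CohB1.tensorMod E F) U (prodFam e f) := by
  refine isBas_of_stalk fun x hx => ?_
  let O := X.presheaf.stalk x
  let be : Module.Basis (Fin m) O (E.presheaf.stalk x) := Module.Basis.ofEquivFun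
    (LinearEquiv.ofBijective (Fintype.linearCombination O fun i => E.presheaf.germ U x hx (e i)) (he.stalk hx)).symm
  let bf : Module.Basis (Fin n) O (F.presheaf.stalk x) := Module.Basis.ofEquivFun
    (LinearEquiv.ofBijective (Fintype.linearCombination O fun i => F.presheaf.germ U x hx (f i)) (hf.stalk hx)).symm
  have hbe : ∀ i, be i = E.presheaf.germ U x hx (e i) := fun i => by
    rw [Module.Basis.coe_ofEquivFun]
    show Fintype.linearCombination O _ (Function.update (0 : Fin m → O) i 1) = _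
    rw [show Function.update (0 : Fin m → O) i 1 = Pi.single i 1 from rfl,
      Fintype.linearCombination_apply_single, one_smul]
  have hbf : ∀ i, bf i = F.presheaf.germ U x hx (f i) := fun i => by
    rw [Module.Basis.coe_ofEquivFun]
    show Fintype.linearCombination O _ (Function.update (0 : Fin n → O) i 1) = _
    rw [show Function.update (0 : Fin n → O) i 1 = Pi.single i 1 from rfl,
      Fintype.linearCombination_apply_single, one_smul]
  let b := ((be.tensorProduct bf).map (M2.stalkEquiv E F x).symm).reindex finProdFinEquiv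
  have hb : ∀ a, b a = (CohB1.tensorMod E F).presheaf.germ U x hx (prodFam e f a) := fun a => by
    apply (M2.stalkEquiv E F x).injective
    rw [Module.Basis.reindex_apply, Module.Basis.map_apply, LinearEquiv.apply_symm_apply,
      Module.Basis.tensorProduct_apply, hbe, hbf]
    exact (M2.stalkEquiv_tsec E F x hx _ _).symm
  have hfun : (fun c : Fin (m * n) → O => ∑ a, c a • (CohB1.tensorMod E F).presheaf.germ U x hx (prodFam e f a)) =
      b.equivFun.symm := funext fun c => by
    rw [Module.Basis.equivFun_symm_apply]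
    simp only [hb]
  rw [hfun]
  exact b.equivFun.symm.bijective

/-- The determinant of `E ⊗ F`. -/
theorem nonempty_iso {DE DF D : X.Modules} (hE : FlatMod.IsFinLocFreeOfRank m E)
    (hF : FlatMod.IsFinLocFreeOfRank n F) (hDE : ExtPow.IsExtPow m E DE) (hDF : ExtPow.IsExtPow n F DF)
    (hD : ExtPow.IsExtPow (m * n) (CohB1.tensorMod E F) D) :
    Nonempty (D ≅ CohB1.tensorMod (CohB1.tensorPow DE n) (CohB1.tensorPow DF m)) := by
  classical
  have hDEi := Wedge2.isInvertible_top hE hDE
  have hDFi := Wedge2.isInvertible_top hF hDF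
  obtain ⟨φE, hφE⟩ := hDE
  obtain ⟨φF, hφF⟩ := hDF
  obtain ⟨φD, hφD⟩ := hD
  have hloc : ∀ x : X, ∃ (U : X.affineOpens) (e : Fin m → Γ(E, U.1)) (f : Fin n → Γ(F, U.1)),
      x ∈ U.1 ∧ IsBas E U.1 e ∧ IsBas F U.1 f := fun x => by
    obtain ⟨D₁, e, hx₁, he⟩ := P1Split.exists_isBas_nhd hE x
    obtain ⟨D₂, f, hx₂, hf⟩ := P1Split.exists_isBas_nhd hF x
    obtain ⟨V, hV, hxV, hVle⟩ := exists_isAffineOpen_mem_and_subset (U := D₁ ⊓ D₂) (x := x) ⟨hx₁, hx₂⟩
    have h : V ≤ D₁ ⊓ D₂ := hVle
    exact ⟨⟨V, hV⟩, _, _, hxV, he.mres (h.trans inf_le_left), hf.mres (h.trans inf_le_right)⟩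
  choose U e f hxU he hf using hloc
  let p : ∀ x, Γ(D, (U x).1) := fun x => (φD (U x)).symm (exteriorPower.ιMulti _ (m * n) (prodFam (e x) (f x)))
  let lE : ∀ x, Γ(DE, (U x).1) := fun x => (φE (U x)).symm (exteriorPower.ιMulti _ m (e x))
  let lF : ∀ x, Γ(DF, (U x).1) := fun x => (φF (U x)).symm (exteriorPower.ιMulti _ n (f x))
  let q : ∀ x, Γ(CohB1.tensorMod (CohB1.tensorPow DE n) (CohB1.tensorPow DF m), (U x).1) := fun x =>
    tsec _ _ (pw (lE x) n) (pw (lF x) m)
  have hp : ∀ x, Twist.IsGen D (U x).1 (p x) := fun x => Twist.isGen_of_stalk fun y hy =>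
    gen_top_wedge φD hφD (U x) (isBas_prodFam (he x) (hf x)) y hy
  have hq : ∀ x, Twist.IsGen (CohB1.tensorMod (CohB1.tensorPow DE n) (CohB1.tensorPow DF m)) (U x).1 (q x) :=
    fun x => Twist.isGen_of_stalk fun y hy => (Amp.gen_tsec_iff (Amp.isInvertible_tensorPow hDEi n)
      (Amp.isInvertible_tensorPow hDFi m) hy _ _).2
        ⟨Amp.gen_pw hDEi hy _ n (gen_top_wedge φE hφE (U x) (he x) y hy),
          Amp.gen_pw hDFi hy _ m (gen_top_wedge φF hφF (U x) (hf x) y hy)⟩
  have hpq : Twist.SameTransition (fun x => (U x).1) p q := by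
    intro i j V hi hj t ht
    have hloc : ∀ y : V, ∃ W : X.affineOpens, y.1 ∈ W.1 ∧ W.1 ≤ V := fun y => by
      obtain ⟨W, hW, hyW, hWV⟩ := exists_isAffineOpen_mem_and_subset (U := V) (x := y.1) y.2
      exact ⟨⟨W, hW⟩, hyW, hWV⟩
    choose W hyW hWV using hloc
    refine modules_eq_of_locally_eq _ V (fun y => (W y).1) hWV
      (fun y hy => Opens.mem_iSup.2 ⟨⟨y, hy⟩, hyW _⟩) _ _ fun y => ?_
    let Q := W y
    have hQi : Q.1 ≤ (U i).1 := (hWV y).trans hi
    have hQj : Q.1 ≤ (U j).1 := (hWV y).trans hj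
    let ei : Fin m → Γ(E, Q.1) := fun a => mres E hQi (e i a)
    let ej : Fin m → Γ(E, Q.1) := fun a => mres E hQj (e j a)
    let fi : Fin n → Γ(F, Q.1) := fun a => mres F hQi (f i a)
    let fj : Fin n → Γ(F, Q.1) := fun a => mres F hQj (f j a)
    obtain ⟨be, hbe⟩ := exists_basis_of_isBas ((he i).mres hQi)
    obtain ⟨bf, hbf⟩ := exists_basis_of_isBas ((hf i).mres hQi)
    obtain ⟨bD, hbD⟩ := exists_basis_of_isBas ((isBas_prodFam (he i) (hf i)).mres hQi)
    let Te : Matrix (Fin m) (Fin m) Γ(X, Q.1) := Matrix.of fun a b => be.repr (ej b) a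
    let Tf : Matrix (Fin n) (Fin n) Γ(X, Q.1) := Matrix.of fun a b => bf.repr (fj b) a
    have hTe : ∀ b, ej b = ∑ a, Te a b • be a := fun b => (be.sum_repr _).symm
    have hTf : ∀ b, fj b = ∑ a, Tf a b • bf a := fun b => (bf.sum_repr _).symm
    let T : Matrix (Fin (m * n)) (Fin (m * n)) Γ(X, Q.1) := Matrix.reindex finProdFinEquiv finProdFinEquiv (Te ⊗ₖ Tf)
    have hsum : ∀ (u : Fin m → Γ(E, Q.1)) (v : Fin n → Γ(F, Q.1)),
        tsec E F (∑ a, u a) (∑ b, v b) = ∑ a, ∑ b, tsec E F (u a) (v b) := fun u v => by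
      rw [tsec_sum_left]
      exact Finset.sum_congr rfl fun a _ =>
        map_sum (AddMonoidHom.mk' (fun s => tsec E F (u a) s) fun s s' => M2.tsec_add_right (u a) s s') v _
    have hT : ∀ c, mres (CohB1.tensorMod E F) hQj (prodFam (e j) (f j) c) = ∑ a, T a c • bD a := fun c => by
      rw [show mres (CohB1.tensorMod E F) hQj (prodFam (e j) (f j) c) = prodFam ej fj c from
        congrFun (mres_prodFam hQj (e j) (f j)) c]
      show tsec E F (ej _) (fj _) = _
      rw [hTe, hTf, hsum, ← Equiv.sum_comp finProdFinEquiv (fun a => T a c • bD a), Fintype.sum_prod_type]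
      refine Finset.sum_congr rfl fun a _ => Finset.sum_congr rfl fun b _ => ?_
      rw [M2.tsec_smul_left, M2.tsec_smul_right, smul_smul, hbD, hbe, hbf]
      refine congrArg₂ (· • ·) ?_ ?_
      · simp [T, Matrix.kroneckerMap_apply]
      · refine Eq.trans ?_ (M2.res_tsec hQi _ _).symm
        rw [Equiv.symm_apply_apply]
    have hDj : mres D hQj (p j) = (Te.det ^ n * Tf.det ^ m) • mres D hQi (p i) := by
      rw [show mres D hQj (p j) = _ from hφD (U j) Q hQj _, show mres D hQi (p i) = _ from hφD (U i) Q hQi _]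
      refine Eq.trans ?_ ((φD Q).symm.map_smul _ _)
      refine congrArg _ ((ιMulti_eq_det_smul bD _ T hT).trans ?_)
      rw [hbD, Matrix.det_reindex_self, Matrix.det_kronecker, Fintype.card_fin, Fintype.card_fin]
      rfl
    have hEj : mres DE hQj (lE j) = Te.det • mres DE hQi (lE i) := by
      rw [show mres DE hQj (lE j) = _ from hφE (U j) Q hQj _, show mres DE hQi (lE i) = _ from hφE (U i) Q hQi _]
      refine Eq.trans ?_ ((φE Q).symm.map_smul _ _)
      refine congrArg _ ((ιMulti_eq_det_smul be _ Te hTe).trans ?_)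
      rw [hbe]
      rfl
    have hFj : mres DF hQj (lF j) = Tf.det • mres DF hQi (lF i) := by
      rw [show mres DF hQj (lF j) = _ from hφF (U j) Q hQj _, show mres DF hQi (lF i) = _ from hφF (U i) Q hQi _]
      refine Eq.trans ?_ ((φF Q).symm.map_smul _ _)
      refine congrArg _ ((ιMulti_eq_det_smul bf _ Tf hTf).trans ?_)
      rw [hbf]
      rfl
    have ht' : ores (hWV y) t = Te.det ^ n * Tf.det ^ m := by
      refine (hp i Q.1 hQi).1 ?_
      show ores (hWV y) t • mres D hQi (p i) = _ • mres D hQi (p i)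
      rw [← hDj]
      have := congrArg (mres D (hWV y)) ht
      rw [mres_mres, mres_smul, mres_mres] at this
      exact this.symm
    have hres : ∀ (k : X) (h : Q.1 ≤ (U k).1),
        mres _ h (q k) = tsec _ _ (pw (mres DE h (lE k)) n) (pw (mres DF h (lF k)) m) := fun k h => by
      refine (M2.res_tsec h _ _).trans ?_
      rw [Amp.res_pw h, Amp.res_pw h]
    rw [mres_mres, mres_smul, mres_mres, ht', hres j, hres i, hEj, hFj, Amp.pw_smul, Amp.pw_smul,
      M2.tsec_smul_left, M2.tsec_smul_right, smul_smul]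
  obtain ⟨τ, -⟩ := Twist.exists_iso_of_gen (fun x => (U x).1)
    (eq_top_iff.2 fun x _ => Opens.mem_iSup.2 ⟨x, hxU x⟩) p q hp hq hpq
  exact ⟨τ⟩

end Groth.Agent.DetTensor28
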